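import Groth.Agent.EtAlg7.EssEtale

/-!
# The structure map of an essentially étale local algebra is local
-/

namespace Groth.Agent.EssEtLib

universe u

open IsLocalRing

variable {A : Type u} [CommRing A] [IsLocalRing A] {B : Type u} [CommRing B] [Algebra A B]

theorem isLocalHom_algebraMap (h : EGA4loc.IsEssentiallyEtale A B) : IsLocalHom (algebraMap A B) := by
  obtain ⟨C, _, _, q, _, _, _, -, hq, hl⟩ := EtAlg7.exists_presentation h
  refine ⟨fun a ha => ?_⟩
  by_contra hna
  rw [IsScalarTower.algebraMap_apply A C B, IsLocalization.AtPrime.isUnit_to_map_iff B q] at ha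
  exact ha (show a ∈ q.comap (algebraMap A C) from hq.symm ▸ hna)

end Groth.Agent.EssEtLib
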