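import Groth.Agent.EssEtLib.LocalHom

/-!
# Transitivity of essentially étale local algebras

Standard étale algebras over a localization descend to a principal localization.
-/

noncomputable section

namespace Groth.Agent.EssEtLib

universe u

open IsLocalRing TensorProduct Polynomial

theorem exists_away_range {R B : Type u} [CommRing R] [CommRing B] [Algebra R B] (M : Submonoid R)
    [IsLocalization M B] (T : Finset B) :
    ∃ s ∈ M, ∃ φ : Localization.Away s →ₐ[R] B, ∀ x ∈ T, x ∈ φ.range := by
  obtain ⟨⟨s, hs⟩, h⟩ := IsLocalization.exist_integer_multiples_of_finset M T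
  have hu : ∀ y : Submonoid.powers s, IsUnit (Algebra.ofId R B y) := fun y => by
    obtain ⟨n, hn⟩ := y.2
    rw [← hn, map_pow]
    exact (IsLocalization.map_units B ⟨s, hs⟩).pow n
  refine ⟨s, hs, IsLocalization.liftAlgHom (M := Submonoid.powers s) hu, fun x hx => ?_⟩
  obtain ⟨c, hc⟩ := h x hx
  refine ⟨algebraMap R _ c * IsLocalization.Away.invSelf s, ?_⟩
  apply (IsLocalization.map_units B ⟨s, hs⟩).mul_left_cancel
  set φ : Localization.Away s →ₐ[R] B := IsLocalization.liftAlgHom (M := Submonoid.powers s) hu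
  have h1 : φ (algebraMap R (Localization.Away s) s * IsLocalization.Away.invSelf s) = 1 := by
    rw [IsLocalization.Away.mul_invSelf, map_one]
  rw [map_mul, AlgHom.commutes] at h1
  calc algebraMap R B s * φ (algebraMap R _ c * IsLocalization.Away.invSelf s)
      = algebraMap R B c * (algebraMap R B s * φ (IsLocalization.Away.invSelf s)) := by
        rw [map_mul, AlgHom.commutes]; ring
    _ = algebraMap R B s * x := by rw [h1, mul_one, hc, Algebra.smul_def]

theorem atPrime_of_isLocalization {R C : Type u} [CommRing R] [CommRing C] [IsLocalRing C] [Algebra R C]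
    (M : Submonoid R) [IsLocalization M C] :
    IsLocalization.AtPrime C ((maximalIdeal C).comap (algebraMap R C)) := by
  refine IsLocalization.of_le M _ (fun m hm h => h (IsLocalization.map_units C ⟨m, hm⟩)) fun r hr => ?_
  by_contra h
  exact hr h

/-- A standard étale pair over a localization comes from a principal localization. -/
theorem exists_descent_pair {R B : Type u} [CommRing R] [CommRing B] [Nontrivial B] [Algebra R B] (M : Submonoid R)
    [IsLocalization M B] (P : StandardEtalePair B) :
    ∃ (R₁ : Type u) (_ : CommRing R₁) (_ : Algebra R R₁) (_ : Algebra R₁ B) (_ : IsScalarTower R R₁ B)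
      (M₁ : Submonoid R₁) (_ : IsLocalization M₁ B) (P₁ : StandardEtalePair R₁),
      Algebra.Etale R R₁ ∧ P₁.map (algebraMap R₁ B) = P := by
  classical
  obtain ⟨p₁, p₂, n, hp⟩ := P.cond
  obtain ⟨s, hs, φ, hφ⟩ := exists_away_range M (P.f.coeffs ∪ P.g.coeffs ∪ p₁.coeffs ∪ p₂.coeffs)
  letI := φ.toRingHom.toAlgebra
  let L := Localization.Away s
  haveI : IsScalarTower R L B := .of_algebraMap_eq fun r => (φ.commutes r).symm
  have lifts : ∀ p : B[X], p.coeffs ⊆ P.f.coeffs ∪ P.g.coeffs ∪ p₁.coeffs ∪ p₂.coeffs →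
      p ∈ Polynomial.lifts (algebraMap L B) := fun p hp => by
    refine (Polynomial.lifts_iff_coeff_lifts p).2 fun i => ?_
    by_cases h0 : p.coeff i = 0
    · exact ⟨0, by rw [map_zero, h0]⟩
    · obtain ⟨y, hy⟩ := hφ _ (hp (Polynomial.coeff_mem_coeffs h0))
      exact ⟨y, hy⟩
  obtain ⟨F, hF, -, hFm⟩ := Polynomial.lifts_and_degree_eq_and_monic (lifts P.f (by grind)) P.monic_f
  obtain ⟨G, hG⟩ := lifts P.g (by grind)
  obtain ⟨q₁, hq₁⟩ := lifts p₁ (by grind)
  obtain ⟨q₂, hq₂⟩ := lifts p₂ (by grind)
  simp only [Polynomial.coe_mapRingHom] at hG hq₁ hq₂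
  haveI hM₁ : IsLocalization (M.map (algebraMap R L)) B :=
    IsLocalization.isLocalization_of_submonoid_le L B (Submonoid.powers s) M (Submonoid.powers_le.2 hs)
  set M₁ := M.map (algebraMap R L)
  let D := derivative F * q₁ + F * q₂ - G ^ n
  have hD : D.map (algebraMap L B) = 0 := by
    rw [Polynomial.map_sub, Polynomial.map_add, Polynomial.map_mul, Polynomial.map_mul, Polynomial.map_pow,
      ← derivative_map, hF, hG, hq₁, hq₂, hp, sub_self]
  have hann : ∀ i, ∃ u : M₁, (u : L) * D.coeff i = 0 := fun i => by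
    refine (IsLocalization.map_eq_zero_iff M₁ B _).1 ?_
    rw [← coeff_map, hD, coeff_zero]
  choose u hu using hann
  let v : M₁ := ∏ i ∈ D.support, u i
  obtain ⟨L₂, _, _, _⟩ : ∃ (L₂ : Type u) (_ : CommRing L₂) (_ : Algebra L L₂), IsLocalization.Away (v : L) L₂ :=
    ⟨Localization.Away (v : L), inferInstance, inferInstance, inferInstance⟩
  letI : Algebra R L₂ := ((algebraMap L L₂).comp (algebraMap R L)).toAlgebra
  haveI : IsScalarTower R L L₂ := .of_algebraMap_eq fun _ => rfl
  have hv : ∀ y : Submonoid.powers (v : L), IsUnit (algebraMap L B y) := fun y => by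
    obtain ⟨k, hk⟩ := y.2
    rw [← hk, map_pow]
    exact (IsLocalization.map_units B v).pow k
  letI : Algebra L₂ B := (IsLocalization.lift (M := Submonoid.powers (v : L)) hv).toAlgebra
  haveI : IsScalarTower L L₂ B :=
    .of_algebraMap_eq fun r => (IsLocalization.lift_eq (M := Submonoid.powers (v : L)) hv r).symm
  haveI hM₂ : IsLocalization (M₁.map (algebraMap L L₂)) B :=
    IsLocalization.isLocalization_of_submonoid_le L₂ B (Submonoid.powers (v : L)) M₁ (Submonoid.powers_le.2 v.2)
  haveI : IsScalarTower R L₂ B := .of_algebraMap_eq fun r => by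
    rw [IsScalarTower.algebraMap_apply R L L₂, ← IsScalarTower.algebraMap_apply L L₂ B,
      ← IsScalarTower.algebraMap_apply R L B]
  have hD₂ : D.map (algebraMap L L₂) = 0 := by
    refine Polynomial.ext fun i => ?_
    rw [coeff_map, coeff_zero]
    by_cases hi : i ∈ D.support
    · have hz : (v : L) * D.coeff i = 0 := by
        rw [show (v : L) = ∏ i ∈ D.support, (u i : L) by simp [v],
          ← Finset.mul_prod_erase _ _ hi, mul_comm (u i : L), mul_assoc, hu i, mul_zero]
      have := congrArg (algebraMap L L₂) hz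
      rw [map_mul, map_zero] at this
      exact (IsLocalization.map_units L₂ (⟨(v : L), Submonoid.mem_powers _⟩ : Submonoid.powers (v : L))).mul_right_eq_zero.1 this
    · rw [Polynomial.notMem_support_iff.1 hi, map_zero]
  let P₁ : StandardEtalePair L₂ :=
    { f := F.map (algebraMap L L₂)
      monic_f := hFm.map _
      g := G.map (algebraMap L L₂)
      cond := ⟨q₁.map (algebraMap L L₂), q₂.map (algebraMap L L₂), n, by
        rw [derivative_map, ← sub_eq_zero, ← hD₂]
        simp [D]⟩ }
  haveI : Algebra.Etale R L := Algebra.Etale.of_isLocalizationAway s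
  haveI : Algebra.Etale L L₂ := Algebra.Etale.of_isLocalizationAway (v : L)
  refine ⟨L₂, inferInstance, inferInstance, inferInstance, inferInstance, _, hM₂, P₁, Algebra.Etale.comp R L L₂, ?_⟩
  cases P
  simp only [StandardEtalePair.map, P₁, Polynomial.map_map, ← IsScalarTower.algebraMap_eq L L₂ B]
  congr

theorem isEssentiallyEtale_trans {A B C : Type u} [CommRing A] [IsLocalRing A] [CommRing B] [IsLocalRing B]
    [Algebra A B] [CommRing C] [Algebra B C] [Algebra A C] [IsScalarTower A B C]
    (hB : EGA4loc.IsEssentiallyEtale A B) (hC : EGA4loc.IsEssentiallyEtale B C) :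
    EGA4loc.IsEssentiallyEtale A C := by
  haveI hAB := isLocalHom_algebraMap hB
  haveI hBC := isLocalHom_algebraMap hC
  obtain ⟨C₀, _, _, p, _, _, _, _, -, hlB⟩ := EtAlg7.exists_presentation hB
  obtain ⟨D, _, _, q, _, _, _, _, -, hlC⟩ := EtAlg7.exists_presentation hC
  haveI : IsLocalRing C := IsLocalization.AtPrime.isLocalRing C q
  obtain ⟨f, hfq, hstd⟩ := Algebra.IsEtaleAt.exists_isStandardEtale (R := B) q
  let Df := Localization.Away f
  let pres : StandardEtalePresentation B Df := hstd.nonempty_standardEtalePresentation.some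
  obtain ⟨R₁, _, _, _, _, M₁, hM₁, P₁, _, hP₁⟩ := exists_descent_pair (B := B) p.primeCompl pres.P
  let E := P₁.Ring
  let pres₁ : StandardEtalePresentation R₁ E :=
    ⟨P₁, P₁.X, StandardEtalePair.hasMap_X, by
      rw [StandardEtalePair.lift_X_left]; exact Function.bijective_id⟩
  have e : B ⊗[R₁] E ≃ₐ[B] Df :=
    (pres₁.baseChange.equivRing.trans
      (hP₁ ▸ AlgEquiv.refl : (P₁.map (algebraMap R₁ B)).Ring ≃ₐ[B] pres.P.Ring)).trans pres.equivRing.symm
  -- `C` as a localization of `Df`
  have hfu : ∀ y : Submonoid.powers f, IsUnit (algebraMap D C y) := fun y => by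
    obtain ⟨k, hk⟩ := y.2
    rw [← hk, map_pow]
    exact (IsLocalization.map_units C (⟨f, hfq⟩ : q.primeCompl)).pow k
  letI : Algebra Df C := (IsLocalization.lift (M := Submonoid.powers f) hfu).toAlgebra
  haveI : IsScalarTower D Df C :=
    .of_algebraMap_eq fun r => (IsLocalization.lift_eq (M := Submonoid.powers f) hfu r).symm
  haveI : IsLocalization (q.primeCompl.map (algebraMap D Df)) C :=
    IsLocalization.isLocalization_of_submonoid_le Df C (Submonoid.powers f) q.primeCompl (Submonoid.powers_le.2 hfq)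
  letI : Algebra (B ⊗[R₁] E) C := ((algebraMap Df C).comp e.toRingEquiv.toRingHom).toAlgebra
  haveI : IsLocalization ((q.primeCompl.map (algebraMap D Df)).map e.symm.toRingEquiv) C :=
    IsLocalization.isLocalization_of_base_ringEquiv (q.primeCompl.map (algebraMap D Df)) C e.symm.toRingEquiv
  letI : Algebra E (B ⊗[R₁] E) := Algebra.TensorProduct.rightAlgebra
  letI : Algebra E C := ((algebraMap (B ⊗[R₁] E) C).comp (algebraMap E (B ⊗[R₁] E))).toAlgebra
  haveI : IsScalarTower E (B ⊗[R₁] E) C := .of_algebraMap_eq fun _ => rfl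
  haveI := IsLocalization.localization_localization_isLocalization (Algebra.algebraMapSubmonoid E M₁)
    ((q.primeCompl.map (algebraMap D Df)).map e.symm.toRingEquiv) C (S := B ⊗[R₁] E)
  have hr := atPrime_of_isLocalization (C := C) (IsLocalization.localizationLocalizationSubmodule
    (Algebra.algebraMapSubmonoid E M₁) ((q.primeCompl.map (algebraMap D Df)).map e.symm.toRingEquiv))
  letI : Algebra A R₁ := ((algebraMap C₀ R₁).comp (algebraMap A C₀)).toAlgebra
  haveI : IsScalarTower A C₀ R₁ := .of_algebraMap_eq fun _ => rfl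
  letI : Algebra A E := ((algebraMap R₁ E).comp (algebraMap A R₁)).toAlgebra
  haveI : IsScalarTower A R₁ E := .of_algebraMap_eq fun _ => rfl
  haveI : Algebra.Etale A R₁ := Algebra.Etale.comp A C₀ R₁
  have hAE : Algebra.Etale A E := Algebra.Etale.comp A R₁ E
  have hcomp : ∀ a : A, algebraMap E C (algebraMap A E a) = algebraMap A C a := fun a => by
    show algebraMap Df C (e ((1 : B) ⊗ₜ[R₁] algebraMap R₁ E (algebraMap C₀ R₁ (algebraMap A C₀ a)))) = _
    rw [← Algebra.TensorProduct.tmul_one_eq_one_tmul,
      show (algebraMap R₁ B (algebraMap C₀ R₁ (algebraMap A C₀ a))) ⊗ₜ[R₁] (1 : E) =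
        algebraMap B (B ⊗[R₁] E) (algebraMap A B a) by
        rw [← IsScalarTower.algebraMap_apply C₀ R₁ B, ← IsScalarTower.algebraMap_apply A C₀ B]; rfl,
      AlgEquiv.commutes, IsScalarTower.algebraMap_apply B D Df, ← IsScalarTower.algebraMap_apply D Df C,
      ← IsScalarTower.algebraMap_apply B D C, ← IsScalarTower.algebraMap_apply A B C]
  let r := (maximalIdeal C).comap (algebraMap E C)
  haveI : IsLocalization.AtPrime C r := hr
  refine ⟨E, inferInstance, inferInstance, r, inferInstance, hAE, ?_, ⟨?_⟩⟩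
  · haveI : IsLocalHom (algebraMap A C) := by
      rw [IsScalarTower.algebraMap_eq A B C]; exact RingHom.isLocalHom_comp _ _
    ext a
    show algebraMap E C (algebraMap A E a) ∈ maximalIdeal C ↔ _
    rw [hcomp]
    exact not_congr (isUnit_map_iff (algebraMap A C) a)
  · haveI : IsScalarTower A E C := .of_algebraMap_eq fun a => (hcomp a).symm
    exact (IsLocalization.algEquiv r.primeCompl C (Localization.AtPrime r)).restrictScalars A

end Groth.Agent.EssEtLib
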